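import Cfsg.Agent.TO.X.Plane
import Cfsg.Agent.TO.X.Mult
import Cfsg.Agent.TO.Kr
import Cfsg.Agent.BHZ.Exc.Full6
import Cfsg.Agent.BHZ.Exc.Lift6
import Cfsg.Agent.BHZ.Exc.CovIIB
import Cfsg.Agent.BHZ.Exc.TY

/-!
# S4817, rows `E₆(q)`, `²E₆(q)` at `p = 3`: the setting and the boxes (helper91)

`St r S` : the finite group `S` inside the adjoint group `YY chevE6 r`, the Frobenius map `X.F` and its lift `σL` to the
universal group `St6 r`.  Boxes: `NonT` (no toral plane), `NoA` (no nontoral plane of type `A₂³`).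
-/

set_option autoImplicit false
set_option linter.unusedSectionVars false

namespace Cfsg.Agent.TO.E6

open Cfsg Cfsg.Lie Matrix Cfsg.Agent.KZ.DatX Cfsg.Agent.Nodes Cfsg.Agent.DL Cfsg.Agent.DL.Ex Cfsg.Agent.DL.PP
  Cfsg.Agent.DL.Uni
open Cfsg.Agent.TO.X Cfsg.Agent.BHZ.Exc Cfsg.Agent.BpExc
open Cfsg.Agent.H469.Exc (KK locFin)
open Cfsg.Agent.DS.Ex (YY)
open Cfsg.Agent.DS.Nt (DZ)
open Cfsg.Agent.H720.TwFr (rho6 sig6)
open Cfsg.Agent.ChevalleyStructure.GraphSymm (symmE6)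
open scoped commutatorElement

/-- **The setting.** -/
structure St (r : ℕ) [Fact r.Prime] (S : Type) [Group S] where
  /-- `q = r ^ e` -/
  e : ℕ
  /-- the symmetry of the diagram -/
  π : Equiv.Perm (Fin 6)
  /-- the matrix of `F` -/
  Mx : Matrix (Fin 6) (Fin 6) ℤ
  /-- the frame -/
  X : XF hpE6 r (KK r) Mx
  /-- the index of `S` in `G ^ F` divides `d` -/
  d : ℕ
  /-- the finite group -/
  s : XS X (AdmL r [1, P6]) d S
  /-- the lift of `F` -/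
  σL : MulAut (St6 r)
  he : 0 < e
  h3 : r ≠ 3
  std : Six.IsStd r e π X.F
  lift : ∀ x, th6 r (σL x) = X.F (th6 r x)
  typ : (π = 1 ∧ Mx = (r : ℤ) ^ e • 1 ∧ d = Nat.gcd 3 (r ^ e - 1)) ∨
    (π = rho6 ∧ Mx = (r : ℤ) ^ e • P6 ∧ d = Nat.gcd 3 (r ^ e + 1))
  zd : ZD 3 S ∨ (r ^ e = 2 ∧ π = rho6 ∧ ZD 6 S)
  sq : π = rho6 → X.F ^ 2 = frobA hpE6.inList r (2 * e)
  tw : π = rho6 → ∀ α : MulAut S, ∃ g, X.F g = g ∧ ∃ j, ∀ a, s.ι (α a) = g * frobA hpE6.inList r j (s.ι a) * g⁻¹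

variable {r : ℕ} [hr : Fact r.Prime]

theorem frobA_eq (e : ℕ) : frobA (k := KK r) hpE6.inList r e = FamUntw.phi chevE6 (KK r) r e := by
  ext1 y
  apply Subtype.ext
  apply Units.ext
  rw [FamUntw.phi_coe, coe_frobA]
  ext i j
  exact iterateFrobenius_def r e _

theorem sigS_eq (e : ℕ) : sigS (k := KK r) r hpE6.inList symmE6 e = sig6 (KK r) r e := by
  unfold sigS
  rw [frobA_eq]
  rfl

/-- `E₆(q)` -/
theorem st_E6 (h3 : r ≠ 3) (F : Type) [Field F] [Fintype F] [CharP F r] {e : ℕ} (hF : Fintype.card F = r ^ e) :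
    Nonempty (St r ↥(chevE6.group F)) := by
  obtain ⟨f⟩ := RowsUntw.exists_emb r F
  have he := pos_of_card hF
  have h1 : Six.IsStd r e 1 (xfS hpE6 r (locFin r) he).F := Or.inl ⟨rfl, frobA_eq e⟩
  obtain ⟨σL, hL⟩ := boxLift6 r h3 e _ _ he h1.frob h1.fr
  have h2 : (1 : Equiv.Perm (Fin 6)) ≠ rho6 := by decide
  exact ⟨⟨e, 1, _, _, _, xsS f (locFin r) he hF (over_E6 f hF hpE6) (cop_sub hr.out.pos he 3)
    (fun _ => index_dvd_E6 f hF hpE6) List.mem_cons_self (grL_E6 r _ F), σL, he, h3, h1, hL, Or.inl ⟨rfl, rfl, rfl⟩,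
    Or.inl ((zd_E6 hF).mono (Nat.gcd_dvd_left _ _)), fun h => absurd h h2, fun h => absurd h h2⟩⟩

/-- `²E₆(q)` -/
theorem st_2E6 (h3 : r ≠ 3) (K : Type) [Field K] [Fintype K] [CharP K r] {e : ℕ} (hK : Fintype.card K = (r ^ e) ^ 2) :
    Nonempty (St r ↥(twistedE6 K (r ^ e))) := by
  obtain ⟨f⟩ := RowsUntw.exists_emb r K
  have he : 0 < e := by
    have h := pos_of_card (hK.trans (pow_mul _ _ _).symm)
    omega
  have hk := locFin r
  have aut : ∀ σ : MulAut ↥(twistedE6 K (r ^ e)), ∃ g, sigS r hpE6.inList symmE6 e g = g ∧ ∃ j, ∀ s,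
      incG hpE6.inList f (e6Words K (r ^ e)) (σ s) =
        g * frobA hpE6.inList r j (incG hpE6.inList f (e6Words K (r ^ e)) s) * g⁻¹ := fun σ => by
    obtain ⟨φ, hφ, hqq⟩ := ChevalleyStructure.TwE6Basic.exists_frob (isPrimePow_pow he) hK
    have hW : Finite CoxeterMatrix.F₄.Group := RGDChev.finite_W hpF4 CoxeterMatrix.F₄.toCoxeterSystem
    obtain ⟨-, τ, y, -, h1, h2⟩ := FamTw.Six.exists_lift hφ hqq CoxeterMatrix.F₄.toCoxeterSystem r f hK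
      (isPrimePow_pow he).one_lt (fun a => IsAlgClosed.exists_pow_nat_eq _ three_pos)
      (Φ := iterateFrobeniusEquiv (KK r) r e) (fun a => by rw [hφ, map_pow, iterateFrobeniusEquiv_def]) σ
    obtain ⟨j, hj⟩ := exists_frob r τ
    refine ⟨y, Subtype.ext (congrArg Subtype.val h1), j, fun s => (h2 s).trans ?_⟩
    congr 2
    exact frob_eq (hp := hpE6) _ hj rfl rfl
  have h1 : Six.IsStd r e rho6 (sigS r hpE6.inList symmE6 e) := Or.inr ⟨rfl, sigS_eq e⟩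
  obtain ⟨σL, hL⟩ := boxLift6 r h3 e _ _ he h1.frob h1.fr
  refine ⟨⟨e, rho6, _, _, _, (xsT hk (amb_of_pow hk two_pos (by omega) (sigE6_sq (m := e)))
    ((gd6 r _).mul (Gd.frob hpE6 r _ e)) (pm_frob pi6) (over_2E6 f he hK) (cop_add he 3)
    (fun _ => index_dvd_2E6 f he hK) aut).mono fun A ⟨j, h⟩ => ⟨j, 1, List.mem_cons_self, h⟩, σL, he, h3, h1, hL,
    Or.inr ⟨rfl, rfl, rfl⟩, ?_, fun _ => sigE6_sq, fun _ => aut⟩⟩
  by_cases h2 : r ^ e = 2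
  · exact Or.inr ⟨h2, rfl, zd_2E6' (isPrimePow_pow he) hK⟩
  · exact Or.inl ((zd_2E6 (isPrimePow_pow he) hK h2).mono (Nat.gcd_dvd_left _ _))

namespace St

variable {S : Type} [Group S] (Γ : St r S)

theorem d_dvd : Γ.d ∣ 3 := by
  rcases Γ.typ with ⟨-, -, h⟩ | ⟨-, -, h⟩ <;> exact h ▸ Nat.gcd_dvd_left _ _

theorem d_eq : Γ.d = 1 ∨ Γ.d = 3 := (Nat.dvd_prime Nat.prime_three).1 Γ.d_dvd

theorem inj : Function.Injective Γ.s.ι := Γ.s.ov.inj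

theorem fix (a : S) : Γ.X.F (Γ.s.ι a) = Γ.s.ι a := F_ι Γ.s a

/-- the index of `S` in `G ^ F` -/
theorem idx : Γ.s.ov.hom.range.index ∣ Γ.d := Γ.s.idx (by rcases Γ.d_eq with h | h <;> rw [h] <;> decide)

theorem cube {y : YY chevE6 r} (hy : Γ.X.F y = y) : y ^ 3 ∈ Γ.s.ι.range := by
  obtain ⟨c, hc⟩ := Γ.d_dvd
  rw [hc, pow_mul]
  exact pow_mem (Γ.s.pow_mem ⟨Subgroup.mem_top y, hy⟩) c

/-- fixed elements of order prime to `3` lie in `S` -/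
theorem mem_of_cop {y : YY chevE6 r} (hy : Γ.X.F y = y) {n : ℕ} (hn : y ^ n = 1) (h : ¬ 3 ∣ n) : y ∈ Γ.s.ι.range :=
  exists_ι Γ.s hy hn (((Nat.Prime.coprime_iff_not_dvd Nat.prime_three).2 h).coprime_dvd_left Γ.d_dvd)

theorem mem_of_one (h : Γ.d = 1) {y : YY chevE6 r} (hy : Γ.X.F y = y) : y ∈ Γ.s.ι.range := by
  have h1 := Γ.s.pow_mem (g := y) ⟨Subgroup.mem_top y, hy⟩
  rwa [show y ^ Γ.d = y by rw [h, pow_one]] at h1

theorem comm_mem {x y : YY chevE6 r} (hx : Γ.X.F x = x) (hy : Γ.X.F y = y) : ⁅x, y⁆ ∈ Γ.s.ι.range :=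
  Γ.s.sit.comm x ⟨Subgroup.mem_top x, hx⟩ y ⟨Subgroup.mem_top y, hy⟩

theorem conj_mem {g x : YY chevE6 r} (hg : Γ.X.F g = g) (hx : x ∈ Γ.s.ι.range) : g * x * g⁻¹ ∈ Γ.s.ι.range :=
  Γ.s.ov.conj_mem ⟨Subgroup.mem_top g, hg⟩ hx

/-- `S` and an element of `G ^ F` outside `S` generate `G ^ F` -/
theorem exists_zpow {g y : YY chevE6 r} (hg : Γ.X.F g = g) (hn : g ∉ Γ.s.ι.range) (hy : Γ.X.F y = y) :
    ∃ n : ℤ, y * (g ^ n)⁻¹ ∈ Γ.s.ι.range := by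
  have := Γ.s.ov.normal
  have h1 : ((⟨g, Subgroup.mem_top g, hg⟩ : ↥(GF Γ.X.F ⊤)) : _ ⧸ Γ.s.ov.hom.range) ≠ 1 := fun h =>
    hn (Γ.s.ov.mem_range.1 ((QuotientGroup.eq_one_iff _).1 h))
  have h2 : Nat.card (↥(GF Γ.X.F ⊤) ⧸ Γ.s.ov.hom.range) = 3 := by
    rcases (Nat.dvd_prime Nat.prime_three).1 (Γ.idx.trans Γ.d_dvd) with h | h
    · have : Subsingleton (↥(GF Γ.X.F ⊤) ⧸ Γ.s.ov.hom.range) := (Nat.card_eq_one_iff_unique.1 h).1
      exact absurd (Subsingleton.elim _ _) h1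
    · exact h
  have := Fact.mk Nat.prime_three
  obtain ⟨n, hn⟩ := mem_zpowers_of_prime_card h2 h1
    (g' := ((⟨y, Subgroup.mem_top y, hy⟩ : ↥(GF Γ.X.F ⊤)) : _ ⧸ Γ.s.ov.hom.range))
  have h4 : (⟨y, Subgroup.mem_top y, hy⟩ : ↥(GF Γ.X.F ⊤)) * ((⟨g, Subgroup.mem_top g, hg⟩ : ↥(GF Γ.X.F ⊤)) ^ n)⁻¹ ∈
      Γ.s.ov.hom.range := by
    rw [← QuotientGroup.eq_one_iff, QuotientGroup.mk_mul, QuotientGroup.mk_inv, QuotientGroup.mk_zpow, ← hn]
    exact mul_inv_cancel _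
  exact ⟨n, Γ.s.ov.mem_range.1 h4⟩

/-- the fixed points of `σL` map into `S` -/
theorem full {x : St6 r} (hx : Γ.σL x = x) : th6 r x ∈ Γ.s.ι.range := by
  have h1 : Subgroup.closure {u : St6 r | Γ.σL u = u ∧ ∃ n : ℕ, u ^ r ^ n = 1} ≤ Γ.s.ι.range.comap (th6 r) := by
    refine (Subgroup.closure_le _).2 ?_
    rintro u ⟨hu, n, hn⟩
    exact exists_ι Γ.s (by rw [← Γ.lift, hu]) (n := r ^ n) (by rw [← map_pow, hn, map_one]) (Γ.s.cop.pow_right n)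
  exact h1 (boxFull6 r Γ.h3 _ _ _ Γ.he Γ.std.frob Γ.std.fr _ Γ.lift x hx)

/-- commutators of lifts of fixed elements are fixed -/
theorem fix_comm {x y : St6 r} (hx : Γ.X.F (th6 r x) = th6 r x) (hy : Γ.X.F (th6 r y) = th6 r y) :
    Γ.σL ⁅x, y⁆ = ⁅x, y⁆ := by
  have k : ∀ x, Γ.X.F (th6 r x) = th6 r x → ∃ z ∈ Subgroup.center (St6 r), Γ.σL x = x * z := fun x hx =>
    ⟨x⁻¹ * Γ.σL x, (cov0_th6 r).cent (by rw [MonoidHom.mem_ker, map_mul, map_inv, Γ.lift, hx, inv_mul_cancel]),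
      by rw [mul_inv_cancel_left]⟩
  obtain ⟨a, a1, a2⟩ := k x hx
  obtain ⟨b, b1, b2⟩ := k y hy
  have a3 := Subgroup.mem_center_iff.1 a1
  have b3 := Subgroup.mem_center_iff.1 b1
  rw [map_commutatorElement, a2, b2, commutatorElement_def, commutatorElement_def]
  calc x * a * (y * b) * (x * a)⁻¹ * (y * b)⁻¹ = x * (a * (y * b) * a⁻¹) * (x⁻¹ * b⁻¹) * y⁻¹ := by group
    _ = x * y * (b * (x⁻¹ * b⁻¹)) * y⁻¹ := by rw [← a3, mul_inv_cancel_right]; group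
    _ = _ := by rw [← mul_assoc b, ← b3, mul_inv_cancel_right]

/-- the elements of `S` have fixed lifts -/
theorem exists_fix (hS : commutator S = ⊤) (a : S) : ∃ x : St6 r, Γ.σL x = x ∧ th6 r x = Γ.s.ι a := by
  have ha : a ∈ commutator S := hS ▸ Subgroup.mem_top a
  rw [commutator_eq_closure] at ha
  induction ha using Subgroup.closure_induction with
  | mem c hc =>
    obtain ⟨u, v, rfl⟩ := hc
    obtain ⟨x, hx⟩ := (cov0_th6 r).surj (Γ.s.ι u)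
    obtain ⟨y, hy⟩ := (cov0_th6 r).surj (Γ.s.ι v)
    exact ⟨⁅x, y⁆, Γ.fix_comm (by rw [hx, Γ.fix]) (by rw [hy, Γ.fix]),
      by rw [map_commutatorElement, map_commutatorElement, hx, hy]⟩
  | one => exact ⟨1, map_one _, by rw [map_one, map_one]⟩
  | mul a b _ _ h1 h2 =>
    obtain ⟨x, x1, x2⟩ := h1
    obtain ⟨y, y1, y2⟩ := h2
    exact ⟨x * y, by rw [map_mul, x1, y1], by rw [map_mul, map_mul, x2, y2]⟩
  | inv a _ h1 =>
    obtain ⟨x, x1, x2⟩ := h1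
    exact ⟨x⁻¹, by rw [map_inv, x1], by rw [map_inv, map_inv, x2]⟩

/-- the centre of the cover is trivial unless `S = ²E₆(2)` -/
theorem centre {G : Type} [Group G] [Finite G] {σ : G →* S} {M : Ideal AlgInt} {b : Set (IrrCharacter G)}
    {D : Subgroup G} (H : Hyp 3 M b D σ) : Subgroup.center G = ⊥ ∨
      (r ^ Γ.e = 2 ∧ Γ.π = rho6 ∧ Nat.card (Subgroup.center G) = 2) := by
  rcases Γ.zd with h | ⟨h1, h2, h⟩
  · rcases (Nat.dvd_prime Nat.prime_three).1 (h.dvd H) with h4 | h4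
    · exact Or.inl (Subgroup.card_eq_one.1 h4)
    · exact absurd (h4 ▸ dvd_rfl) H.zp
  · have h4 : Nat.card (Subgroup.center G) ∣ 2 :=
      Nat.Coprime.dvd_of_dvd_mul_right ((Nat.Prime.coprime_iff_not_dvd Nat.prime_three).2 H.zp).symm (h.dvd H)
    rcases (Nat.dvd_prime Nat.prime_two).1 h4 with h5 | h5
    · exact Or.inl (Subgroup.card_eq_one.1 h5)
    · exact Or.inr ⟨h1, h2, h5⟩

/-- the automorphisms induced by `G ^ F` -/
def Dg : Subgroup (MulAut S) where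
  carrier := {α | ∃ g, Γ.X.F g = g ∧ ∀ a, Γ.s.ι (α a) = g * Γ.s.ι a * g⁻¹}
  one_mem' := ⟨1, map_one _, fun a => by simp⟩
  mul_mem' := by
    rintro α β ⟨g, g1, g2⟩ ⟨h, h1, h2⟩
    refine ⟨g * h, by rw [map_mul, g1, h1], fun a => ?_⟩
    rw [MulAut.mul_apply, g2, h2]
    group
  inv_mem' := by
    rintro α ⟨g, g1, g2⟩
    refine ⟨g⁻¹, by rw [map_inv, g1], fun a => ?_⟩
    have h := g2 (α⁻¹ a)
    rw [MulAut.apply_inv_self] at h
    rw [h]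
    group

theorem mem_Dg {α : MulAut S} : α ∈ Γ.Dg ↔ ∃ g, Γ.X.F g = g ∧ ∀ a, Γ.s.ι (α a) = g * Γ.s.ι a * g⁻¹ := Iff.rfl

end St

/-- all commuting pairs of lifts generate cyclic groups: `Q` contains no toral plane -/
def NoTor {S : Type} [Group S] (Γ : St r S) (Q : Subgroup S) : Prop :=
  ∀ a b : St6 r, th6 r a ∈ Q.map Γ.s.ι → th6 r b ∈ Q.map Γ.s.ι → a * b = b * a →
    th6 r a = 1 ∨ th6 r b ∈ Subgroup.zpowers (th6 r a)

/-- [NoA] there is no nontoral plane of pure type `A₂³` -/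
def NoA : Prop := ∀ (r : ℕ) [Fact r.Prime], r ≠ 3 → ∀ (ζ : KK r) (t b : YY chevE6 r), StdA ζ t → b * t = t * b →
  b ∉ DZ hpE6 r {t} → b ^ 3 = 1 → TypA b → TypA (t * b) → TypA (t * t * b) → False

/-- the nontrivial elements of `Q` have the same type -/
def SameT : Prop := ∀ (r : ℕ) [Fact r.Prime] (S : Type) [Group S] (Γ : St r S) (A : Subgroup (MulAut S))
  (Q : Subgroup S), Pure 3 S A Q → ∀ a ∈ Q, ∀ b ∈ Q, a ≠ 1 → b ≠ 1 →
    (TypA (Γ.s.ι a) → TypA (Γ.s.ι b)) ∧ (TypD (Γ.s.ι a) → TypD (Γ.s.ι b))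

/-- [NonT] the case without toral planes -/
def NonT : Prop := ∀ (r : ℕ) [Fact r.Prime] (S : Type) [Group S] (Γ : St r S) (G : Type) [Group G] [Finite G]
  (σ : G →* S) (M : Ideal AlgInt) (b : Set (IrrCharacter G)) (D : Subgroup G), Hyp 3 M b D σ →
    NoTor Γ (D.map σ) → False

end Cfsg.Agent.TO.E6
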