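import Cfsg.Agent.TO.E6.Same
import Cfsg.Agent.TO.E6.Pn
import Cfsg.Agent.TO.E6N.Main
import Cfsg.Agent.TO.E6A.Main
import Cfsg.Agent.TO.Blk

/-!
# S4817, rows `E₆(q)`, `²E₆(q)` at `p = 3`: assembly (helper13)
-/

set_option autoImplicit false
set_option linter.unusedSectionVars false

namespace Cfsg.Agent.TO.E6

open Cfsg Cfsg.Lie Matrix Cfsg.Agent.KZ.DatX Cfsg.Agent.Nodes Cfsg.Agent.DL Cfsg.Agent.DL.Ex
open Cfsg.Agent.TO.X Cfsg.Agent.BHZ.Exc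
open Cfsg.Agent.H469.Exc (KK locFin)
open Cfsg.Agent.DS.Ex (YY)
open Cfsg.Agent.DS.Nt (Tp tp_of_mem_DZ exists_conj_T)

attribute [local instance] Nat.fact_prime_three

/-- [TorB] the case of a toral plane -/
def TorB : Prop := ∀ (r : ℕ) [Fact r.Prime] (S : Type) [Group S] (Γ : St r S) (G : Type) [Group G] [Finite G]
  (σ : G →* S) (M : Ideal AlgInt) (b : Set (IrrCharacter G)) (D : Subgroup G), Hyp 3 M b D σ →
    ∀ (ζ : (KK r)ˣ) (hζ : IsPrimitiveRoot ζ 3) (E : Tor Γ.X), u0 ∈ vs Γ.s hζ E (D.map σ) →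
      x0 ∈ vs Γ.s hζ E (D.map σ) → False

variable {r : ℕ} [Fact r.Prime]

/-- commuting lifts have toral images -/
theorem tp_of_comm (h3 : r ≠ 3) {a b : St6 r} (ha : th6 r a ^ 3 = 1) (hb : th6 r b ^ 3 = 1) (h : a * b = b * a) :
    Tp r (th6 r a) (th6 r b) := by
  obtain ⟨g, hg⟩ := exists_conj_T hpE6 Nat.prime_three h3.symm (n := 1) (x := th6 r a) ha
  obtain ⟨c, rfl⟩ := (cov0_th6 r).surj g
  have e : ∀ x, th6 r (c * x * c⁻¹) = th6 r c * th6 r x * (th6 r c)⁻¹ := fun x => by rw [map_mul, map_mul, map_inv]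
  have k : ∀ x, th6 r x ^ 3 = 1 → th6 r (c * x * c⁻¹) ^ 3 = 1 := fun x hx => by
    rw [e, conj_pow, hx, mul_one, mul_inv_cancel]
  rw [← e] at hg
  obtain ⟨y, h1, h2⟩ := tp_of_mem_DZ Nat.prime_three h3.symm hg ⟨1, k a ha⟩
    (CovII.conn6 h3 _ (c * b * c⁻¹) hg (k a ha) (by
      calc c * b * c⁻¹ * (c * a * c⁻¹) = c * (b * a) * c⁻¹ := by group
        _ = _ := by rw [← h]; group)) ⟨1, k b hb⟩
  have e' : ∀ x, y * th6 r (c * x * c⁻¹) * y⁻¹ = y * th6 r c * th6 r x * (y * th6 r c)⁻¹ := fun x => by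
    rw [e]
    group
  exact ⟨y * th6 r c, e' a ▸ h1, e' b ▸ h2⟩

/-- **the standard plane** -/
theorem exists_std_plane {S : Type} [Group S] (Γ : St r S) {A : Subgroup (MulAut S)} {Q : Subgroup S} (P : Pure 3 S A Q)
    (h : ¬ NoTor Γ Q) {ζ : (KK r)ˣ} (hζ : IsPrimitiveRoot ζ 3) :
    ∃ E : Tor Γ.X, u0 ∈ vs Γ.s hζ E Q ∧ x0 ∈ vs Γ.s hζ E Q := by
  unfold NoTor at h
  push Not at h
  obtain ⟨a, b, ⟨x, hx, h1⟩, ⟨y, hy, h2⟩, h3, h4, h5⟩ := h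
  have k : ∀ z ∈ Q, Γ.s.ι z ^ 3 = 1 := fun z hz => by rw [← map_pow, Pure.pow_eq hζ P hz, map_one]
  obtain ⟨g, h6, h7⟩ := tp_of_comm Γ.h3 (h1 ▸ k x hx) (h2 ▸ k y hy) h3
  rw [← h1] at h4 h5 h6
  rw [← h2] at h5 h7
  obtain ⟨E, hE⟩ := exists_tor_of_conj Γ.X (Z := {Γ.s.ι x, Γ.s.ι y}) (x := g⁻¹) (by
    rintro _ (rfl | rfl) <;> rw [Γ.fix]
    exacts [Set.mem_insert _ _, Set.mem_insert_of_mem _ rfl]) (by
    rintro _ (rfl | rfl) <;> rw [inv_inv]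
    exacts [h6, h7])
  obtain ⟨u, u1, u2⟩ := exists_vec Γ.s hζ P E hx (hE (Set.mem_insert _ _))
  obtain ⟨v, v1, v2⟩ := exists_vec Γ.s hζ P E hy (hE (Set.mem_insert_of_mem _ rfl))
  obtain ⟨W, hW, h8⟩ := pn.pl u v ((plane_of Γ.s hζ P E (le_KK hx) (le_KK hy) (fun h0 => h4 (by rw [h0, map_one]))
    (fun ⟨n, hn⟩ => h5 ⟨n, by rw [← hn, map_zpow]⟩) u2 v2).mono fun _ =>
      admS_of_admL Nat.prime_three Fact.out Γ.h3.symm)
  obtain ⟨E', -, -, h9⟩ := exists_std Γ.s hζ E u1 v1 hW h8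
  exact ⟨E', h9⟩

theorem row_of (hT : TorB) {S : Type} [Group S] (Γ : St r S) : Row 3 S := by
  intro G _ _ σ M b D H
  obtain ⟨ζ, hζ⟩ := exists_prim (r := r) (KK r) (n := 3)
    fun h0 => Γ.h3 ((Nat.prime_dvd_prime_iff_eq Fact.out Nat.prime_three).1 h0)
  obtain ⟨E, h1, h2⟩ := exists_std_plane Γ (blk.pure G 3 M b D S σ H)
    (E6N.nonT boxNoA sameT r S Γ G σ M b D H) hζ
  exact hT r S Γ G σ M b D H ζ hζ E h1 h2

/-- **the rows** -/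
theorem rows (hT : TorB) : RE6 3 ∧ RT6 3 :=
  ⟨fun F _ _ _ _ _ _ hF h => let ⟨Γ⟩ := st_E6 h.symm F hF; row_of hT Γ,
    fun K _ _ _ _ _ _ hK h => let ⟨Γ⟩ := st_2E6 h.symm K hK; row_of hT Γ⟩

end Cfsg.Agent.TO.E6
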