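import Cfsg.Agent.TO.T3.KF

/-!
# S4817, type `E₆`, `p = 3`: an element which fixes a linear constituent of the canonical character (helper54)
-/

set_option autoImplicit false

namespace Cfsg.Agent.TO.E6

open Cfsg Subgroup
open Cfsg.Agent.TO.Cn Cfsg.Agent.Characters.Core Cfsg.Agent.Characters Cfsg.Agent.TO.T3

namespace Fn

/-- characters with a common constituent -/
theorem inner_ne {N : Type} [Group N] [Fintype N] {φ ψ f : N → ℂ} (hφ : IsCharacter N φ) (hψ : IsCharacter N ψ)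
    (hf : IsIrrCharacter N f) (h1 : classInner φ f ≠ 0) (h2 : classInner ψ f ≠ 0) : classInner φ ψ ≠ 0 := by
  classical
  have := finite_irr (G := N)
  have := Fintype.ofFinite (IrrCharacter N)
  choose a ha using fun χ : IrrCharacter N => classInner_isNat hφ (isIrr_isCharacter χ.2)
  choose c hc using fun χ : IrrCharacter N => classInner_isNat hψ (isIrr_isCharacter χ.2)
  rw [classInner_eq_sum (isCharacter_isClassFunction hφ) (isCharacter_isClassFunction hψ)]
  simp only [ha, hc, map_natCast]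
  rw [ha ⟨f, hf⟩] at h1
  rw [hc ⟨f, hf⟩] at h2
  norm_cast at h1 h2 ⊢
  exact fun h => mul_ne_zero h1 h2 (Finset.sum_eq_zero_iff.1 h _ (Finset.mem_univ _))

variable {H : Type} [Group H] [Finite H] {N : Subgroup H} [N.Normal]

/-- an involution fixes a constituent -/
theorem exists_fix [Fintype N] (ho : Odd (Nat.card H)) {χ : H → ℂ} (hχ : IsIrrCharacter H χ) (γ : N →* N)
    (hγ : ∀ n : N, χ (γ n) = χ n) (h2 : ∀ n, γ (γ n) = n) :
    ∃ f : N → ℂ, IsIrrCharacter N f ∧ classInner (fun n : N => χ n) f ≠ 0 ∧ ∀ n, f (γ n) = f n := by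
  classical
  have := Fact.mk Nat.prime_two
  have hs : Function.Bijective γ := Function.Involutive.bijective h2
  have h1 := KF.card_con (N := N) hχ Nat.prime_two fun c =>
    ⟨_, fun h => Nat.not_even_iff_odd.2 ho (even_iff_two_dvd.2 h), by rw [pow_card_eq_one']; exact one_mem _⟩
  set Ω := {f : N → ℂ | IsIrrCharacter N f ∧ classInner (fun n : N => χ n) f ≠ 0} with hΩ
  have h3 : Finite Ω := Nat.finite_of_card_ne_zero fun h => h1 (h ▸ dvd_zero 2)
  have := Fintype.ofFinite Ω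
  let F : Function.End Ω := fun f => ⟨f.1 ∘ γ, KF.comp_mem γ hs hγ f.2.1 f.2.2⟩
  have h4 := Equiv.Perm.card_fixedPoints_modEq (f := F) (p := 2) (n := 1)
    (funext fun f => Subtype.ext (funext fun n => congrArg f.1 (h2 n)))
  have h5 : Nonempty F.fixedPoints := by
    by_contra h6
    rw [not_nonempty_iff, ← Fintype.card_eq_zero_iff] at h6
    rw [h6, ← Nat.card_eq_fintype_card] at h4
    exact h1 (Nat.modEq_zero_iff_dvd.1 h4)
  obtain ⟨⟨f, f1, f2⟩, h6⟩ := h5
  exact ⟨f, f1, f2, congrFun (congrArg Subtype.val h6)⟩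

omit [N.Normal] in
/-- two irreducible characters which vanish outside `N` and have a common constituent -/
theorem eq_of_van [Fintype N] {χ ψ : H → ℂ} (hχ : IsIrrCharacter H χ) (hψ : IsIrrCharacter H ψ) (hv : ∀ c, c ∉ N → χ c = 0)
    {f : N → ℂ} (hf : IsIrrCharacter N f) (h1 : classInner (fun n : N => χ n) f ≠ 0)
    (h2 : classInner (fun n : N => ψ n) f ≠ 0) : χ = ψ := by
  classical
  have := Fintype.ofFinite H
  by_contra h
  have h3 := classInner_irr_ne hχ hψ h
  refine inner_ne (isCharacter_comp N.subtype (isIrr_isCharacter hχ)) (isCharacter_comp N.subtype (isIrr_isCharacter hψ))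
    hf h1 h2 ?_
  rw [classInner_def, mul_eq_zero] at h3 ⊢
  refine .inr (Eq.trans ?_ (h3.resolve_left (inv_ne_zero card_ne_zero_complex)))
  show ∑ g : N, χ g * starRingEnd ℂ (ψ g) = _
  rw [← Finset.sum_subtype (Finset.univ.filter (· ∈ N)) (by simp) fun g => χ g * (starRingEnd ℂ) (ψ g), Finset.sum_filter]
  refine Finset.sum_congr rfl fun g _ => ?_
  split_ifs with h4
  · rfl
  · rw [hv g h4, zero_mul]

/-- an inverted element of odd order lies in the kernel of a linear character -/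
theorem mul_eq {K : Type} [Group K] [Finite K] (hab : ∀ x y : K, x * y = y * x) {f : K → ℂ} (hf : IsIrrCharacter K f) {u : K}
    (ho : Odd (orderOf u)) (h : f u⁻¹ = f u) (g : K) : f (u * g) = f g := by
  obtain ⟨c, c1, -⟩ := Cfsg.Agent.ODD.Red.exists_central hf (z := u) (mem_center_iff.2 fun g => hab _ _)
  have h0 := isIrr_apply_one_ne_zero hf
  have h1 : c * c = 1 := mul_right_cancel₀ h0 (by
    have h2 := c1 u⁻¹
    rw [mul_inv_cancel, h, ← mul_one u, c1] at h2
    rw [one_mul, mul_assoc, ← h2])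
  have h2 : ∀ n : ℕ, f (u ^ n) = c ^ n * f 1 := fun n => by
    induction n with
    | zero => simp
    | succ n ih => rw [pow_succ', c1, ih, pow_succ', mul_assoc]
  obtain ⟨k, hk⟩ := ho
  have h3 := h2 (orderOf u)
  rw [pow_orderOf_eq_one, hk, pow_succ, pow_mul, pow_two, h1, one_pow, one_mul] at h3
  rw [c1, mul_right_cancel₀ h0 (h3.symm.trans (one_mul _).symm), one_mul]

end Fn

/-- **[FIN]** -/
theorem mem_In_of_inv {G : Type} [Group G] [Finite G] {p : ℕ} [Fact p.Prime] {M : Ideal AlgInt}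
    {b : Set (IrrCharacter G)} {D : Subgroup G} {θ : G → ℂ} (h : Can p M b D θ) {A : Subgroup G} (hA : A ≤ Ce D)
    (hc : ∀ a ∈ A, ∀ a1 ∈ A, a * a1 = a1 * a) (hn : ∀ c ∈ Ce D, ∀ a ∈ A, c * a * c⁻¹ ∈ A)
    (hv : ∀ c ∈ Ce D, c ∉ A → θ c = 0) (ho : Odd (Nat.card (Ce D))) {t : G} (ht : t ∈ In D θ)
    (htA : ∀ a ∈ A, t * a * t⁻¹ ∈ A) (ht2 : ∀ a ∈ A, t * (t * a * t⁻¹) * t⁻¹ = a) {m : G}
    (hm : m ∈ Subgroup.normalizer (D : Set G)) (hmA : ∀ a ∈ A, m * a * m⁻¹ ∈ A)
    (hi : ∀ a ∈ A, t * (m * a * m⁻¹ * a⁻¹) * t⁻¹ = (m * a * m⁻¹ * a⁻¹)⁻¹) : m ∈ In D θ := by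
  have : (A.subgroupOf (Ce D)).Normal := ⟨fun n hn' c => hn c c.2 n hn'⟩
  have := Fintype.ofFinite (A.subgroupOf (Ce D))
  let cj : ∀ x : G, (∀ a ∈ A, x * a * x⁻¹ ∈ A) → (A.subgroupOf (Ce D) →* A.subgroupOf (Ce D)) := fun x hx =>
    { toFun := fun n => ⟨⟨x * n.1.1 * x⁻¹, hA (hx _ n.2)⟩, hx _ n.2⟩
      map_one' := Subtype.ext (Subtype.ext (by simp))
      map_mul' := fun a c => Subtype.ext (Subtype.ext (by simp [mul_assoc])) }
  have hab : ∀ x y : A.subgroupOf (Ce D), x * y = y * x := fun x y => Subtype.ext (Subtype.ext (hc _ x.2 _ y.2))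
  obtain ⟨f, f1, f2, f3⟩ := Fn.exists_fix ho h.irr (cj t htA) (fun n => ht.2 _)
    fun n => Subtype.ext (Subtype.ext (ht2 _ n.2))
  have h1 : ∀ n, f (cj m hmA n) = f n := fun n => by
    rw [← Fn.mul_eq hab f1 (u := cj m hmA n * n⁻¹) ?_ ?_ n, inv_mul_cancel_right]
    · exact ho.of_dvd_nat ((_root_.orderOf_dvd_natCard _).trans (card_subgroup_dvd_card _))
    · rw [← f3 (cj m hmA n * n⁻¹)]
      exact congrArg f (Subtype.ext (Subtype.ext (hi _ n.2).symm))
  let β : Ce D →* Ce D :=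
    { toFun := fun c => ⟨m * c * m⁻¹, conj_mem_Ce hm c.2⟩
      map_one' := Subtype.ext (by simp)
      map_mul' := fun a c => Subtype.ext (by simp [mul_assoc]) }
  have h2 : Function.Injective β := fun a c e => by
    have h6 := congrArg Subtype.val e
    change m * a * m⁻¹ = m * c * m⁻¹ at h6
    exact Subtype.ext (mul_left_cancel (mul_right_cancel h6))
  have h3 : Function.Injective (cj m hmA) := fun a c e => Subtype.ext (h2 (congrArg Subtype.val e))
  have h4 := Fn.eq_of_van h.irr (isIrr_comp β (Finite.injective_iff_surjective.1 h2) h.irr) (fun c => hv c c.2) f1 f2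
    fun e => f2 (by
      refine Eq.trans ?_ e
      rw [classInner_def, classInner_def, ← Equiv.sum_comp (Equiv.ofBijective _ (Finite.injective_iff_bijective.1 h3))]
      exact congrArg _ (Finset.sum_congr rfl fun n _ => congrArg (_ * starRingEnd ℂ ·) (h1 n)))
  refine ⟨fun y => (mem_normalizer_iff.1 hm y).symm, fun g => ?_⟩
  show θ (m * g * m⁻¹) = θ g
  by_cases hg : g ∈ Ce D
  · exact (congrFun h4 ⟨g, hg⟩).symm
  · rw [h.zero g hg, h.zero _ fun h5 => hg ?_]
    have h6 := conj_mem_Ce (inv_mem hm) h5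
    rwa [show m⁻¹ * (m * g * m⁻¹) * m⁻¹⁻¹ = g by group] at h6

end Cfsg.Agent.TO.E6
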