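import Cfsg.Agent.TO.E6.TorA
import Cfsg.Agent.TO.E6.Fin
import Cfsg.Agent.TO.Blk

/-!
# S4817, rows `E₆(q)`, `²E₆(q)` at `p = 3`: a toral plane, the block (helper91)
-/

set_option autoImplicit false
set_option linter.unusedSectionVars false

namespace Cfsg.Agent.TO.E6

open Cfsg Cfsg.Lie Matrix Cfsg.Agent.KZ.DatX Cfsg.Agent.Nodes Cfsg.Agent.DL Cfsg.Agent.DL.PP Cfsg.Agent.DL.Uni
open Cfsg.Agent.TO.X Cfsg.Agent.BHZ.Exc
open Cfsg.Agent.H469.Exc (KK)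
open Cfsg.Agent.DS.Ex (YY)

attribute [local instance] Nat.fact_prime_three

theorem Fx.mul {A B : Matrix (Fin 6) (Fin 6) ℤ} (h : Fx A) (h' : Fx B) : Fx (A * B) :=
  ⟨h.ra.mul h'.ra, by rw [mv_mul, h'.u, h.u], by rw [mv_mul, h'.x, h.x]⟩

theorem mv_neg (A : Matrix (Fin 6) (Fin 6) ℤ) (v : Fin 6 → ZMod 3) : mv (-A) v = -mv A v := by
  rw [← neg_one_smul ℤ A, smul_mv, Int.cast_neg, Int.cast_one, neg_one_smul]

theorem u0_mem : u0 ∈ B0 := Submodule.subset_span (Set.mem_insert _ _)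

theorem x0_mem : x0 ∈ B0 := Submodule.subset_span (Set.mem_insert_of_mem _ rfl)

variable {r : ℕ} [hr : Fact r.Prime] {S : Type} [Group S] {Γ : St r S} {E : Tor Γ.X} {ζ : (KK r)ˣ}
  {hζ : IsPrimitiveRoot ζ 3} {G : Type} [Group G] [Finite G] {σ : G →* S} {A : Subgroup (MulAut S)} {D : Subgroup G}

theorem rp_T {w : CoxeterMatrix.E₆.Group} {m t : YY chevE6 r} (hm : E.Rp w m) (ht : t ∈ E.T) : m * t * m⁻¹ ∈ E.T := by
  obtain ⟨c, rfl⟩ := E.mem_T.1 ht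
  rw [E.conj_τ hm]
  exact E.τ_mem _

namespace Sp

variable (K : Sp E hζ A (D.map σ)) (hσ : Function.Bijective σ)
include K hσ

theorem finj : Function.Injective (Γ.s.ι.comp σ) := Γ.inj.comp hσ.1

theorem memD {g : G} : g ∈ D ↔ ∃ v ∈ B0, (Γ.s.ι.comp σ) g = E.e ζ v := (Subgroup.mem_map_iff_mem hσ.1).symm.trans K.mem_Q

theorem exD {v : Fin 6 → ZMod 3} (hv : v ∈ B0) : ∃ d ∈ D, (Γ.s.ι.comp σ) d = E.e ζ v := by
  obtain ⟨_, ⟨d, h1, rfl⟩, h2⟩ := K.B_le hv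
  exact ⟨d, h1, h2⟩

theorem ceQ {g : G} (hg : g ∈ Ce D) : σ g ∈ Ce (D.map σ) := by
  rintro _ ⟨d, h1, rfl⟩
  rw [← map_mul, ← map_mul, hg d h1]

theorem T_le : E.T.comap (Γ.s.ι.comp σ) ≤ Ce D := fun g hg d hd => K.finj hσ (by
  rw [map_mul, map_mul]
  exact E.T_comm (K.Q_le ⟨d, hd, rfl⟩) hg)

theorem D_le : D ≤ E.T.comap (Γ.s.ι.comp σ) := fun d hd => K.Q_le ⟨d, hd, rfl⟩

theorem card_D : Nat.card D = 9 := by
  have h1 : (Γ.s.ι.comp σ) '' D = E.e ζ '' (B0 : Set (Fin 6 → ZMod 3)) := by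
    refine Set.Subset.antisymm ?_ ?_
    · rintro _ ⟨d, hd, rfl⟩
      obtain ⟨v, h1, h2⟩ := (K.memD hσ).1 hd
      exact ⟨v, h1, h2.symm⟩
    · rintro _ ⟨v, hv, rfl⟩
      exact K.exD hσ hv
  have h2 := Nat.card_image_of_injective (K.finj hσ) (D : Set G)
  rw [h1, Nat.card_image_of_injective (E.e_inj hζ)] at h2
  refine h2.symm.trans ((Module.natCard_eq_pow_finrank (K := ZMod 3) (V := B0)).trans ?_)
  rw [finrank_B0, Nat.card_zmod]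
  rfl

theorem reg_mem {g : G} (hg : g ∈ Ce D) (h : ¬ 3 ∣ orderOf g) : g ∈ E.T.comap (Γ.s.ι.comp σ) :=
  K.T0_le ⟨σ g, ⟨K.ceQ hσ hg, by rwa [orderOf_injective _ hσ.1]⟩, rfl⟩

theorem odd : Odd (Nat.card (Ce D)) := by
  by_contra h0
  obtain ⟨c, hc⟩ := exists_prime_orderOf_dvd_card' (G := Ce D) 2 (Nat.not_odd_iff_even.1 h0).two_dvd
  rw [← Subgroup.orderOf_coe] at hc
  obtain ⟨q, h, F⟩ := exists_fq E
  have h1 := F.pow_odd (K.good F) (K.reg_mem hσ c.2 (by rw [hc]; decide)) (Γ.fix _)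
  obtain ⟨n, hn⟩ := Int.even_mul_succ_self (q ^ 2)
  have h2 : (c : G) ^ (2 : ℤ) = 1 := by rw [← pow_orderOf_eq_one (c : G), hc, ← zpow_natCast, Nat.cast_ofNat]
  rw [show 1 + q ^ 2 + q ^ 4 = 1 + 2 * n by linear_combination hn, ← map_zpow, _root_.zpow_add, _root_.zpow_mul, h2,
    _root_.one_zpow, mul_one, zpow_one, map_eq_one_iff _ (K.finj hσ)] at h1
  rw [h1, orderOf_one] at hc
  exact absurd hc (by decide)

/-- an element which inverts `D` -/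
theorem exists_inv {t : G} (ht : ∀ d ∈ D, t * d * t⁻¹ = d⁻¹) : ∃ w, E.Rp w ((Γ.s.ι.comp σ) t) ∧ Fx (-wm Γ.X w) := by
  obtain ⟨w, hw⟩ := E.mem_NN.1 (mem_NN_of_empty E.D (Z := E.e ζ '' (B0 : Set (Fin 6 → ZMod 3))) (by
    rintro _ ⟨v, -, rfl⟩
    exact E.e_mem ζ v) K.Sz_B (Subgroup.mem_top ((Γ.s.ι.comp σ) t)) (by
    rintro _ ⟨v, hv, rfl⟩
    obtain ⟨d, h1, h2⟩ := K.exD hσ hv
    have h3 := ht _ (inv_mem h1)
    rw [inv_inv] at h3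
    rw [← h2, ← map_inv, ← map_mul, ← map_mul, ← h3, show t⁻¹ * (t * d⁻¹ * t⁻¹) * t = d⁻¹ by group]
    exact K.D_le hσ (inv_mem h1)))
  have key : ∀ v ∈ B0, mv (-wm Γ.X w) v = v := fun v hv => by
    obtain ⟨d, h1, h2⟩ := K.exD hσ hv
    rw [mv_neg, neg_eq_iff_eq_neg]
    refine E.e_inj hζ ?_
    rw [← E.conj_e hζ hw, E.e_neg hζ, ← h2, ← map_inv, ← map_mul, ← map_mul, ht d h1, map_inv]
  exact ⟨w, hw, (ra_wm w).neg hpE6, key _ u0_mem, key _ x0_mem⟩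

/-- representatives in the finite group -/
theorem exists_rep {q : ℤ} {h : Matrix (Fin 6) (Fin 6) ℤ} (F : Fq E q h) {w : CoxeterMatrix.E₆.Group}
    (hw : h * wm Γ.X w = wm Γ.X w * h) : ∃ m, E.Rp w ((Γ.s.ι.comp σ) m) := by
  obtain ⟨m, m1, m2⟩ := E.exists_rp_fix (F.comm.2 hw)
  have key : ∀ y ∈ Γ.s.ι.range, E.Rp w y → ∃ m, E.Rp w ((Γ.s.ι.comp σ) m) := by
    rintro _ ⟨a, rfl⟩ h1
    obtain ⟨g, rfl⟩ := hσ.2 a
    exact ⟨g, h1⟩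
  rcases F.d with h1 | h1
  · exact key m (Γ.mem_of_one h1 m2) m1
  · obtain ⟨n, hn⟩ := Γ.exists_zpow (g := E.e ζ mu)
      ((E.fix_iff hζ).2 ((F.mv_A _).trans (K.L.gw h (K.fx F) (K.good F) h1).2))
      (fun ⟨a, ha⟩ => K.not_cj E (K.mem_KK (ha ▸ E.e_mem ζ mu)) ha (by decide) K.L.nzm) m2
    exact key _ hn (by simpa only [mul_one] using m1.mul (E.rp_one_iff.2 (inv_mem (zpow_mem (E.e_mem ζ mu) n))))

theorem fin {M : Ideal AlgInt} {b : Set (IrrCharacter G)} (H : Two 3 M b D) : False := by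
  obtain ⟨θ, hθ⟩ := blk.can0 G 3 M b D H.hM H.hb H.hD ((K.D_le hσ).trans (K.T_le hσ))
  obtain ⟨t, t1, t2⟩ := blk.neg G 3 M b D θ H hθ (Or.inr (K.card_D hσ))
  obtain ⟨q, h, F⟩ := exists_fq E
  obtain ⟨w, w1, w2⟩ := K.exists_inv hσ t2
  have w3 : E.Rp (w * w * w) ((Γ.s.ι.comp σ) (t * t * t)) := by
    rw [map_mul, map_mul]
    exact (w1.mul w1).mul w1
  have w4 : wm Γ.X (w * w * w) * wm Γ.X (w * w * w) = 1 := by
    rw [← K.L.six _ w2, map_mul, map_mul]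
    noncomm_ring
  have w5 : Fx (-wm Γ.X (w * w * w)) := by
    have h1 := (w2.mul w2).mul w2
    rwa [neg_mul_neg, mul_neg, ← map_mul, ← map_mul] at h1
  obtain ⟨c, c1, c2, c3, c4, c5, c6⟩ := K.L.fin h _ (K.fx F) (K.good F) w5 (WM_wm _ _) w4
    (F.comm.1 (E.comm_of_fix w3 (Γ.fix _))).symm
  obtain ⟨v, rfl⟩ := c1.exists_w Γ.X
  obtain ⟨m, hm⟩ := K.exists_rep hσ F c3.symm
  have k0 : ∀ {x : G} {u : CoxeterMatrix.E₆.Group}, E.Rp u ((Γ.s.ι.comp σ) x) → ∀ a ∈ E.T.comap (Γ.s.ι.comp σ),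
      x * a * x⁻¹ ∈ E.T.comap (Γ.s.ι.comp σ) := fun hx a ha => by
    rw [Subgroup.mem_comap, map_mul, map_mul, map_inv]
    exact rp_T hx ha
  have k1 : m ∈ In D θ := by
    refine mem_In_of_inv hθ (K.T_le hσ) (fun a ha a' ha' => K.finj hσ ?_) (fun c hc => ?_) (fun c hc hn => ?_) (K.odd hσ)
      (mul_mem (mul_mem t1 t1) t1) (k0 w3) (fun a ha => K.finj hσ ?_) (Subgroup.mem_normalizer_fintype fun d hd => ?_)
      (k0 hm) fun a ha => K.finj hσ ?_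
    · rw [map_mul, map_mul]
      exact E.T_comm ha ha'
    · obtain ⟨u, h1, -⟩ := cent_of_empty hζ E K.reg (K.comm (K.ceQ hσ hc))
      exact k0 h1
    · obtain ⟨x, y, y1, y2, ⟨k, y3⟩, y4⟩ := Blocks.PPart.exists_isPPart 3 (⟨c, hc⟩ : Ce D)
      have y5 : (x : G) * y = c := congrArg Subtype.val y1
      refine hθ.van (x := x) ⟨y, y5, congrArg Subtype.val y2.eq, ⟨k, by rw [Subgroup.orderOf_coe, y3]⟩,
        by rwa [Subgroup.orderOf_coe]⟩ fun h4 => hn ?_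
      rw [← y5]
      exact mul_mem (K.D_le hσ h4) (K.reg_mem hσ y.2 (by rwa [Subgroup.orderOf_coe]))
    · obtain ⟨x, hx⟩ := E.mem_T.1 ha
      rw [map_mul _ _ (_⁻¹), map_mul _ _ (_ * _⁻¹), map_mul _ _ (_⁻¹), map_mul _ _ a, map_inv, ← hx, E.conj_τ w3,
        E.conj_τ w3, ← mon_mul, w4, mon_one]
    · obtain ⟨x, h1, h2⟩ := (K.memD hσ).1 hd
      exact (K.memD hσ).2 ⟨_, c5 x h1, by rw [map_mul, map_mul, map_inv, h2, E.conj_e hζ hm]⟩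
    · obtain ⟨x, hx⟩ := E.mem_T.1 ha
      have h1 : (Γ.s.ι.comp σ) (m * a * m⁻¹ * a⁻¹) = E.τ (mon (wm Γ.X v - 1) x) := by
        rw [map_mul, map_mul, map_mul, map_inv, map_inv, ← hx, E.conj_τ hm, mon_sub, mon_one, map_mul, map_inv]
      rw [add_mul, one_mul, add_eq_zero_iff_eq_neg] at c4
      rw [map_inv, map_mul _ _ (_⁻¹), map_mul _ _ (_ * a⁻¹), map_inv, h1, E.conj_τ w3, ← mon_mul, c4, mon_neg, map_inv]
  have k2 : m ∈ Ce D := by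
    refine hθ.mem_Ce_of_pow k1 (k := 1) (K.T_le hσ ?_)
    have h1 : v * v * v = 1 := wm_inj Γ.X (by rw [map_one, ← c2, map_mul, map_mul, pow_three'])
    have h2 := (hm.mul hm).mul hm
    rw [h1, ← map_mul, ← map_mul] at h2
    rw [pow_one, pow_three']
    exact E.rp_one_iff.1 h2
  have k3 : ∀ x ∈ B0, mv (wm Γ.X v) x = x := fun x hx => E.e_inj hζ (by
    rw [← E.conj_e hζ hm, mul_inv_eq_iff_eq_mul]
    exact (K.comm (K.ceQ hσ k2) x hx).symm)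
  exact c6 ⟨k3 _ u0_mem, k3 _ x0_mem⟩

end Sp

/-- **the toral case** -/
theorem tor_false (L : Lt) (Γ : St r S) {M : Ideal AlgInt} {b : Set (IrrCharacter G)} (H : Hyp 3 M b D σ)
    (hζ : IsPrimitiveRoot ζ 3) (E : Tor Γ.X) (hu : u0 ∈ vs Γ.s hζ E (D.map σ)) (hx : x0 ∈ vs Γ.s hζ E (D.map σ)) :
    False := by
  have K : Sp E hζ (Ind σ b) (D.map σ) := ⟨L, blk.pure G 3 M b D S σ H, hu, hx⟩
  rcases Γ.centre H with h | ⟨h1, h2, -⟩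
  · exact K.fin ⟨(MonoidHom.ker_eq_bot_iff σ).1 (H.ker.trans h), H.surj⟩ H.toTwo
  · exact K.not_two h1 h2

end Cfsg.Agent.TO.E6
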