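import Cfsg.Agent.TO.E6.Defs

/-!
# S4817, rows `E₆(q)`, `²E₆(q)` at `p = 3`: `sameT` and the outer automorphisms (helper91)
-/

set_option autoImplicit false
set_option linter.unusedSectionVars false

namespace Cfsg.Agent.TO.E6

open Cfsg Cfsg.Lie Matrix Cfsg.Agent.KZ.DatX Cfsg.Agent.Nodes Cfsg.Agent.DL Cfsg.Agent.DL.PP Cfsg.Agent.DL.Uni
open Cfsg.Agent.TO.X Cfsg.Agent.BHZ.Exc Cfsg.Agent.BpExc
open Cfsg.Agent.DL.Ex (tau cX_tau mem_TT_iff tau_mem frobA)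
open Cfsg.Agent.H469.Exc (KK)
open Cfsg.Agent.DS.Ex (YY)
open Cfsg.Agent.H129.TorusChar (cX)
open Cfsg.Agent.KFacts.RgdChevCoord (TT)
open Cfsg.Agent.H720.TwFr (rho6)

variable {r : ℕ} [hr : Fact r.Prime] {S : Type} [Group S]

theorem vecMul_P6 (x : Fin 6 → ℤ) : (x ᵥ* P6) 3 = x 3 ∧ (x ᵥ* P6) 0 + (x ᵥ* P6) 5 = x 0 + x 5 := by
  have h : P6 = !![0,0,0,0,0,1; 0,1,0,0,0,0; 0,0,0,0,1,0; 0,0,0,1,0,0; 0,0,1,0,0,0; 1,0,0,0,0,0] := by decide +kernel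
  rw [h]
  simp [vecMul, dotProduct, Fin.sum_univ_six, add_comm]

/-- the standard elements are preserved by the admissible automorphisms -/
theorem std_au (h3 : r ≠ 3) {f : (Fin 6 → ℤ) → ℤ} (h1 : ∀ x, f (x ᵥ* P6) = f x) (h2 : ∀ (c : ℤ) x, f (c • x) = c * f x)
    {A : Matrix (Fin 6) (Fin 6) ℤ} (hA : AdmL r [1, P6] A) {ζ : KK r} (hζ : IsPrimitiveRoot ζ 3) {c : Fin 6 → (KK r)ˣ}
    (hc : ∀ x, cX hpE6 (tau hpE6 c) x = ζ ^ f x) :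
    ∃ ζ' : KK r, IsPrimitiveRoot ζ' 3 ∧ ∀ x, cX hpE6 (tau hpE6 (mon A c)) x = ζ' ^ f x := by
  obtain ⟨j, B, hB, rfl⟩ := hA
  refine ⟨ζ ^ r ^ j, hζ.pow_of_coprime _ (Six.cop3 h3 j), fun x => ?_⟩
  have h4 : f (x ᵥ* B) = f x := by
    rcases List.mem_pair.1 hB with rfl | rfl
    · rw [vecMul_one]
    · exact h1 x
  rw [cX_tau, chr_mon, ← cX_tau hpE6, hc, vecMul_smul, h2, h4, ← zpow_natCast, ← _root_.zpow_mul, Nat.cast_pow]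

theorem typ_aut (Γ : St r S) (α : MulAut S) (a : S) :
    (TypA (Γ.s.ι a) → TypA (Γ.s.ι (α a))) ∧ (TypD (Γ.s.ι a) → TypD (Γ.s.ι (α a))) := by
  obtain ⟨g, -, β, A, h1, h2, h3⟩ := Γ.s.aut α
  have key : ∀ {f : (Fin 6 → ℤ) → ℤ}, (∀ x, f (x ᵥ* P6) = f x) → (∀ (c : ℤ) x, f (c • x) = c * f x) →
      ∀ (y : YY chevE6 r) (ζ : KK r), IsPrimitiveRoot ζ 3 ∧ y * Γ.s.ι a * y⁻¹ ∈ TT chevE6 (KK r) ∧
        (∀ x, cX hpE6 (y * Γ.s.ι a * y⁻¹) x = ζ ^ f x) → ∃ (y' : YY chevE6 r) (ζ' : KK r), IsPrimitiveRoot ζ' 3 ∧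
        y' * Γ.s.ι (α a) * y'⁻¹ ∈ TT chevE6 (KK r) ∧ ∀ x, cX hpE6 (y' * Γ.s.ι (α a) * y'⁻¹) x = ζ' ^ f x := by
    rintro f f1 f2 y ζ ⟨k1, k2, k3⟩
    obtain ⟨c, hc⟩ := (mem_TT_iff hpE6 _).1 k2
    obtain ⟨ζ', k4, k5⟩ := std_au Γ.h3 f1 f2 h2 k1 (c := c) (by rw [hc]; exact k3)
    have k6 : β y * g⁻¹ * Γ.s.ι (α a) * (β y * g⁻¹)⁻¹ = tau hpE6 (mon A c) := by
      have k7 : β (tau hpE6 c) = tau hpE6 (mon A c) := h1.tau c
      rw [← k7, hc, h3, map_mul, map_mul, map_inv]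
      group
    exact ⟨β y * g⁻¹, ζ', k4, by rw [k6]; exact tau_mem hpE6 _, by rw [k6]; exact k5⟩
  exact ⟨fun ⟨y, ζ, h⟩ => key (f := fun x => x 3) (fun x => (vecMul_P6 x).1) (fun _ _ => rfl) y ζ h,
    fun ⟨y, ζ, h⟩ => key (f := fun x => x 0 + x 5) (fun x => (vecMul_P6 x).2) (fun c x => (mul_add c _ _).symm) y ζ h⟩

theorem pElt_of_mem {A : Subgroup (MulAut S)} {Q : Subgroup S} (P : Pure 3 S A Q) {a : S} (ha : a ∈ Q) : PElt 3 a := by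
  obtain ⟨n, hn⟩ := P.pg ⟨a, ha⟩
  obtain ⟨j, -, hj⟩ := (Nat.dvd_prime_pow Nat.prime_three).1
    (orderOf_dvd_of_pow_eq_one (show a ^ 3 ^ n = 1 from congrArg Subtype.val hn))
  exact ⟨j, hj⟩

/-- **[SameT]** -/
theorem sameT : SameT := fun _ _ _ _ Γ _ _ P a ha b hb h1 h2 => by
  obtain ⟨α, -, rfl⟩ := P.conj a (le_KK ha) b (le_KK hb) (pElt_of_mem P ha) (pElt_of_mem P hb) h1 h2
  exact typ_aut Γ α a

namespace St

variable (Γ : St r S)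

theorem inn_le : Inn S ≤ Γ.Dg := by
  rintro _ ⟨g, rfl⟩
  exact ⟨Γ.s.ι g, Γ.fix g, fun a => by rw [MulAut.conj_apply, map_mul, map_mul, map_inv]⟩

/-- every element of `G ^ F` induces an automorphism -/
theorem exists_Dg {g : YY chevE6 r} (hg : Γ.X.F g = g) : ∃ α : MulAut S, ∀ a, Γ.s.ι (α a) = g * Γ.s.ι a * g⁻¹ := by
  have := Γ.s.ov.normal
  let e := MonoidHom.ofInjective Γ.s.ov.hom_inj
  refine ⟨e.trans ((MulAut.conjNormal (⟨g, Subgroup.mem_top g, hg⟩ : ↥(GF Γ.X.F ⊤))).trans e.symm), fun a => ?_⟩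
  exact congrArg Subtype.val (MonoidHom.apply_ofInjective_symm Γ.s.ov.hom_inj
    (MulAut.conjNormal (⟨g, Subgroup.mem_top g, hg⟩ : ↥(GF Γ.X.F ⊤)) (e a)))

theorem mem_inn {α : MulAut S} {g : YY chevE6 r} (hg : g ∈ Γ.s.ι.range) (h : ∀ a, Γ.s.ι (α a) = g * Γ.s.ι a * g⁻¹) :
    α ∈ Inn S := by
  obtain ⟨x, rfl⟩ := hg
  exact ⟨x, MulEquiv.ext fun a => Γ.inj (by rw [h, MulAut.conj_apply, map_mul, map_mul, map_inv])⟩

theorem Dg_zpow {α : MulAut S} {g : YY chevE6 r} (h : ∀ a, Γ.s.ι (α a) = g * Γ.s.ι a * g⁻¹) (n : ℤ) (a : S) :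
    Γ.s.ι ((α ^ n) a) = g ^ n * Γ.s.ι a * (g ^ n)⁻¹ := by
  induction n using Int.induction_on generalizing a with
  | zero => simp
  | succ n ih =>
    rw [_root_.zpow_add_one, _root_.zpow_add_one, MulAut.mul_apply, ih, h]
    group
  | pred n ih =>
    have h1 := h (α⁻¹ a)
    rw [MulAut.apply_inv_self] at h1
    rw [_root_.zpow_sub_one, _root_.zpow_sub_one, MulAut.mul_apply, ih, h1]
    group

theorem relIndex_Dg : (Inn S).relIndex Γ.Dg ∣ 3 := by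
  by_cases h : Γ.Dg ≤ Inn S
  · rw [Subgroup.relIndex_eq_one.2 h]
    exact one_dvd _
  obtain ⟨α, ⟨g, g1, g2⟩, h1⟩ := SetLike.not_le_iff_exists.1 h
  have h2 : Subgroup.zpowers ((⟨α, g, g1, g2⟩ : Γ.Dg) : Γ.Dg ⧸ (Inn S).subgroupOf Γ.Dg) = ⊤ := by
    refine eq_top_iff.2 fun x _ => ?_
    obtain ⟨⟨β, y, y1, y2⟩, rfl⟩ := QuotientGroup.mk_surjective x
    obtain ⟨n, hn⟩ := Γ.exists_zpow g1 (fun h3 => h1 (Γ.mem_inn h3 g2)) y1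
    refine ⟨n, ?_⟩
    show _ ^ n = _
    rw [← QuotientGroup.mk_zpow, eq_comm, ← mul_inv_eq_one, ← QuotientGroup.mk_inv, ← QuotientGroup.mk_mul,
      QuotientGroup.eq_one_iff]
    refine Γ.mem_inn hn fun a => ?_
    show Γ.s.ι ((β * (α ^ n)⁻¹) a) = _
    rw [MulAut.mul_apply, y2, ← _root_.zpow_neg, Γ.Dg_zpow g2]
    group
  show Nat.card _ ∣ 3
  rw [← Subgroup.card_top, ← h2, Nat.card_zpowers, orderOf_dvd_iff_pow_eq_one, ← QuotientGroup.mk_pow,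
    QuotientGroup.eq_one_iff]
  refine Γ.mem_inn (Γ.cube g1) fun a => ?_
  have h3 := Γ.Dg_zpow g2 (3 : ℕ) a
  rwa [zpow_natCast, zpow_natCast] at h3

variable (h2 : r ^ Γ.e = 2) (hπ : Γ.π = rho6)
include h2 hπ

theorem index_Dg : Γ.Dg.index ∣ 2 := by
  have he : Γ.e = 1 := (Nat.prime_two.pow_eq_iff.1 h2).2
  have h1 : ∀ j, frobA (k := KK r) hpE6.inList r j = frobA hpE6.inList r 1 ^ j := fun j => by
    rw [frobA_eq, frobA_eq, FamUntw.phi_pow, one_mul]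
  have h4 : ∀ j a, (frobA hpE6.inList r 1 ^ (2 * j)) (Γ.s.ι a) = Γ.s.ι a := fun j a => by
    have h5 := Γ.sq hπ
    rw [he, mul_one, h1] at h5
    rw [pow_mul, ← h5, ← pow_mul]
    have h6 : Γ.X.F ∈ MulAction.stabilizer (MulAut (YY chevE6 r)) (Γ.s.ι a) := Γ.fix a
    exact pow_mem h6 _
  have key : ∀ α, α ∉ Γ.Dg → ∃ g, Γ.X.F g = g ∧ ∀ a, Γ.s.ι (α a) = g * frobA hpE6.inList r 1 (Γ.s.ι a) * g⁻¹ := by
    intro α hα
    obtain ⟨g, g1, j, g2⟩ := Γ.tw hπ α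
    rcases Nat.even_or_odd' j with ⟨i, rfl | rfl⟩
    · exact absurd ⟨g, g1, fun a => by rw [g2, h1, h4]⟩ hα
    · exact ⟨g, g1, fun a => by rw [g2, h1, pow_succ', MulAut.mul_apply, h4]⟩
  rw [Subgroup.index_dvd_two_iff]
  by_cases h : ∃ α, α ∉ Γ.Dg
  · obtain ⟨α, hα⟩ := h
    refine ⟨α⁻¹, fun β => or_iff_not_imp_right.2 fun hβ => ?_⟩
    obtain ⟨g, g1, g2⟩ := key α hα
    obtain ⟨y, y1, y2⟩ := key β hβ
    refine ⟨y * g⁻¹, by rw [map_mul, map_inv, g1, y1], fun a => ?_⟩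
    have h5 := g2 (α⁻¹ a)
    rw [MulAut.apply_inv_self] at h5
    rw [MulAut.mul_apply, y2, h5]
    group
  · exact ⟨1, fun β => Or.inr (not_not.1 fun h5 => h ⟨β, h5⟩)⟩

/-- `|Out ²E₆(2)|` divides `6` -/
theorem index_inn : (Inn S).index ∣ 6 := by
  rw [← Subgroup.relIndex_mul_index Γ.inn_le]
  exact Nat.mul_dvd_mul Γ.relIndex_Dg (Γ.index_Dg h2 hπ)

theorem relIndex_inn (A : Subgroup (MulAut S)) : (Inn S).relIndex A ∣ 6 :=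
  (Subgroup.relIndex_dvd_index_of_normal _ _).trans (Γ.index_inn h2 hπ)

theorem pow_six (β : MulAut S) : β ^ 6 ∈ Inn S := by
  obtain ⟨c, hc⟩ := Γ.index_inn h2 hπ
  rw [hc, pow_mul]
  exact pow_mem ((Inn S).pow_index_mem β) c

theorem relIndex_le_two {A : Subgroup (MulAut S)} (h : A ⊓ Γ.Dg ≤ Inn S) : (Inn S).relIndex A ≤ 2 := by
  have h1 : (Inn S).subgroupOf A = Γ.Dg.subgroupOf A :=
    le_antisymm (fun _ hx => Γ.inn_le hx) fun x hx => h ⟨x.2, hx⟩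
  have h4 : Γ.Dg.Normal := by
    rcases (Nat.dvd_prime Nat.prime_two).1 (Γ.index_Dg h2 hπ) with h5 | h5
    · rw [Subgroup.index_eq_one.1 h5]
      infer_instance
    · exact Subgroup.normal_of_index_eq_two h5
  show ((Inn S).subgroupOf A).index ≤ 2
  rw [h1]
  exact Nat.le_of_dvd two_pos ((Subgroup.relIndex_dvd_index_of_normal _ _).trans (Γ.index_Dg h2 hπ))

end St

end Cfsg.Agent.TO.E6
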