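import Cfsg.Agent.TO.E6.Same
import Cfsg.Agent.TO.E6.LatI
import Cfsg.Agent.TO.X.Pl63

/-!
# S4817, rows `E₆(q)`, `²E₆(q)` at `p = 3`: a toral plane, the consequences of `Pure` (helper91)
-/

set_option autoImplicit false
set_option linter.unusedSectionVars false

namespace Cfsg.Agent.TO.E6

open Cfsg Cfsg.Lie Matrix Cfsg.Agent.KZ.DatX Cfsg.Agent.Nodes Cfsg.Agent.DL Cfsg.Agent.DL.PP Cfsg.Agent.DL.Uni
open Cfsg.Agent.TO.X Cfsg.Agent.BHZ.Exc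
open Cfsg.Agent.TO.X.Stab (RA Gm Gm_symm)
open Cfsg.Agent.TO.X.Pl (cz mv_cz vl_cz)
open Cfsg.Agent.TO.X7 (nz nz_cj)
open Cfsg.Agent.H469.Exc (KK)
open Cfsg.Agent.DS.Ex (YY)
open Cfsg.Agent.H720.TwFr (rho6)

attribute [local instance] Nat.fact_prime_three

/-! ### reflections -/

/-- the reflection in a root -/
def R6 (a : Fin 6 → ℤ) : Matrix (Fin 6) (Fin 6) ℤ := 1 - vecMulVec (G6 *ᵥ a) a

theorem bl_comm (a b : Fin 6 → ℤ) : a ⬝ᵥ G6 *ᵥ b = b ⬝ᵥ G6 *ᵥ a := by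
  rw [dotProduct_mulVec, ← mulVec_transpose, Gm_symm hpE6, dotProduct_comm]

theorem ra_cor {N : Matrix (Fin 6) (Fin 6) ℤ} (h : RA chevE6 6 N) (a : Fin 6 → ℤ) :
    N *ᵥ (G6 *ᵥ (a ᵥ* N)) = G6 *ᵥ a := by rw [← mulVec_transpose, mulVec_mulVec, mulVec_mulVec, h.fm]

theorem ra_bl {N : Matrix (Fin 6) (Fin 6) ℤ} (h : RA chevE6 6 N) (a b : Fin 6 → ℤ) :
    (a ᵥ* N) ⬝ᵥ G6 *ᵥ (b ᵥ* N) = a ⬝ᵥ G6 *ᵥ b := by rw [← dotProduct_mulVec, ra_cor h]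

theorem ra_R6 {N : Matrix (Fin 6) (Fin 6) ℤ} (h : RA chevE6 6 N) (a : Fin 6 → ℤ) : N * R6 (a ᵥ* N) = R6 a * N := by
  rw [R6, R6, mul_sub, sub_mul, mul_one, one_mul, mul_vecMulVec, vecMulVec_mul, ra_cor h]

theorem vecMul_R6 (a b : Fin 6 → ℤ) : b ᵥ* R6 a = b - (b ⬝ᵥ G6 *ᵥ a) • a := Pl.vecMul_refl _ _ _

theorem R6_mulVec (a v : Fin 6 → ℤ) : R6 a *ᵥ v = v - (a ⬝ᵥ v) • G6 *ᵥ a := Pl.refl_mulVec _ _ _

theorem bl_tab : ∀ s < chevE6.nroots, RGDChev.vec chevE6 6 s ⬝ᵥ G6 *ᵥ RGDChev.vec chevE6 6 s = 2 := by decide +kernel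

theorem bl_self {a : Fin 6 → ℤ} (ha : Rt chevE6 6 a) : a ⬝ᵥ G6 *ᵥ a = 2 := by
  obtain ⟨s, hs, rfl⟩ := ha
  exact bl_tab s hs

theorem two_step {a b : Fin 6 → ℤ} (ha : Rt chevE6 6 a) (h : a ⬝ᵥ G6 *ᵥ b = -1) : a ᵥ* (R6 b * R6 a) = b := by
  rw [← vecMul_vecMul, vecMul_R6, vecMul_R6, h, sub_dotProduct, smul_dotProduct, bl_self ha, bl_comm b, h]
  module

theorem cz_neg (v : Fin 6 → ℤ) : cz 3 (-v) = -cz 3 v := funext fun _ => Int.cast_neg _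

theorem cz_ne {a v : Fin 6 → ℤ} (h : a ⬝ᵥ v = 2) : cz 3 v ≠ 0 := fun e => by
  have h1 := vl_cz (p := 3) a v
  rw [e, h] at h1
  simp only [vl, Pi.zero_apply, mul_zero, Finset.sum_const_zero] at h1
  exact absurd h1 (by decide)

theorem finrank_B0 : Module.finrank (ZMod 3) B0 = 2 := by
  have h : LinearIndependent (ZMod 3) ![u0, x0] := LinearIndependent.pair_iff.2 (by decide +kernel)
  have h1 := finrank_span_eq_card h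
  rwa [Matrix.range_cons, Matrix.range_cons, Matrix.range_empty, Set.union_empty, Set.singleton_union] at h1

theorem mon_pow_fix {k : Type} [Field k] {A : Matrix (Fin 6) (Fin 6) ℤ} {c : Fin 6 → kˣ} (h : mon A c = c) (n : ℕ) :
    mon (A ^ n) c = c := by
  induction n with
  | zero => rw [pow_zero, mon_one]
  | succ n ih => rw [pow_succ, mon_mul, h, ih]

theorem mon_zero' {k : Type} [Field k] (c : Fin 6 → kˣ) : mon (0 : Matrix (Fin 6) (Fin 6) ℤ) c = 1 :=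
  funext fun _ => chr_zero c

variable {r : ℕ} [hr : Fact r.Prime] {S : Type} [Group S] {Γ : St r S}

theorem ra_wm (w : CoxeterMatrix.E₆.Group) : RA chevE6 6 (wm Γ.X w) := RA.Wm Γ.X w

theorem wm_rf6 (E : Tor Γ.X) {a : Fin 6 → ℤ} (ha : Rt chevE6 6 a) : wm Γ.X (E.rf a) = R6 a := by
  have h1 : a ⬝ᵥ E.cor a = 2 :=
    (E.D.pair_cor ((E.rt_iff a).2 ha) a).trans (Coroot.cpr_self _ _ ((E.rt_iff a).2 ha))
  have h2 := ra_cor (ra_wm (Γ := Γ) (E.rf a)) a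
  rw [E.wm_rf ha, Pl.vecMul_refl, Pl.refl_mulVec, h1, mulVec_sub, mulVec_smul, dotProduct_sub, dotProduct_smul,
    bl_self ha] at h2
  rw [E.wm_rf ha, R6]
  congr 2
  refine smul_right_injective _ (two_ne_zero (α := ℤ)) ?_
  linear_combination (exp := 1) h2

/-- the form of the matrix of `F` -/
structure Fq (E : Tor Γ.X) (q : ℤ) (h : Matrix (Fin 6) (Fin 6) ℤ) : Prop where
  A : E.A = q • h
  q1 : (q : ZMod 3) = 1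
  qr : q = (r : ℤ) ^ Γ.e ∨ q = -(r : ℤ) ^ Γ.e
  ra : RA chevE6 6 h
  d : Γ.d = 1 ∨ WM chevE6 6 h
  two : r ^ Γ.e = 2 → Γ.π = rho6 → q = -2 ∧ WM chevE6 6 h

theorem exists_fq (E : Tor Γ.X) : ∃ q h, Fq E q h := by
  have h0 : r ^ Γ.e % 3 = 1 ∨ r ^ Γ.e % 3 = 2 := by
    have h1 : ¬ 3 ∣ r ^ Γ.e := (Nat.Prime.coprime_iff_not_dvd Nat.prime_three).1 (Six.cop3 Γ.h3 _).symm
    omega
  have c1 : r ^ Γ.e % 3 = 1 → (((r : ℤ) ^ Γ.e : ℤ) : ZMod 3) = 1 := fun h => by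
    rw [← Nat.cast_pow, Int.cast_natCast, ← ZMod.natCast_mod, h, Nat.cast_one]
  have c2 : r ^ Γ.e % 3 = 2 → ((-(r : ℤ) ^ Γ.e : ℤ) : ZMod 3) = 1 := fun h => by
    rw [Int.cast_neg, ← Nat.cast_pow, Int.cast_natCast, ← ZMod.natCast_mod, h]
    decide
  have g : ∀ n, ¬ 3 ∣ n → Nat.gcd 3 n = 1 := fun n h => (Nat.Prime.coprime_iff_not_dvd Nat.prime_three).2 h
  have h2 : (1 : Equiv.Perm (Fin 6)) ≠ rho6 := by decide
  obtain ⟨w0, h4⟩ : ∃ w, wm Γ.X w = -P6 := Γ.X.exists_neg_E6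
  have h5 : ∀ N, Γ.Mx = N → E.A = wm Γ.X E.w * N := fun _ e => e ▸ E.A_eq
  rcases Γ.typ with ⟨t1, t2, t3⟩ | ⟨t1, t2, t3⟩ <;> rcases h0 with h0 | h0
  · exact ⟨_, wm Γ.X E.w, by rw [h5 _ t2, mul_smul_comm, mul_one], c1 h0, Or.inl rfl, ra_wm _, Or.inr (WM_wm _ _),
      fun _ h => absurd (t1.symm.trans h) h2⟩
  · exact ⟨_, -wm Γ.X E.w, by rw [h5 _ t2, mul_smul_comm, mul_one, neg_smul_neg], c2 h0, Or.inr rfl,
      (ra_wm _).neg hpE6, Or.inl (t3.trans (g _ (by omega))), fun _ h => absurd (t1.symm.trans h) h2⟩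
  · exact ⟨_, -wm Γ.X (E.w * w0), by rw [h5 _ t2, mul_smul_comm, map_mul, h4, mul_neg, neg_neg], c1 h0, Or.inl rfl,
      (ra_wm _).neg hpE6, Or.inl (t3.trans (g _ (by omega))), fun h _ => by omega⟩
  · exact ⟨_, wm Γ.X (E.w * w0), by rw [h5 _ t2, mul_smul_comm, map_mul, h4, mul_neg, neg_smul_neg], c2 h0,
      Or.inr rfl, ra_wm _, Or.inr (WM_wm _ _), fun h _ => ⟨by rw [← Nat.cast_pow, h]; rfl, WM_wm _ _⟩⟩

variable {E : Tor Γ.X} {q : ℤ} {h : Matrix (Fin 6) (Fin 6) ℤ}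

theorem Fq.mv_A (F : Fq E q h) (v : Fin 6 → ZMod 3) : mv E.A v = mv h v := by rw [F.A, smul_mv, F.q1, one_smul]

theorem Fq.eq_one (F : Fq E q h) {x : (KK r)ˣ} (hx : x ^ q = 1) : x = 1 := by
  have h1 : x ^ r ^ Γ.e = 1 := by
    rcases F.qr with h1 | h1
    · rwa [h1, ← Nat.cast_pow, zpow_natCast] at hx
    · rwa [h1, ← Nat.cast_pow, _root_.zpow_neg, inv_eq_one, zpow_natCast] at hx
  refine Units.ext (sub_eq_zero.1 ((pow_eq_zero_iff (pow_pos hr.out.pos Γ.e).ne').1 ?_))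
  rw [sub_pow_char_pow, ← Units.val_pow_eq_pow_val, h1, Units.val_one, one_pow, sub_self]

theorem Fq.comm (F : Fq E q h) {N : Matrix (Fin 6) (Fin 6) ℤ} : E.A * N = N * E.A ↔ h * N = N * h := by
  have h0 : q ≠ 0 := fun e => absurd F.q1 (by rw [e]; decide)
  rw [F.A, smul_mul_assoc, mul_smul_comm, (smul_right_injective _ h0).eq_iff]

theorem Fq.Sz (F : Fq E q h) {Z : Set (YY chevE6 r)} (hZ : Z ⊆ E.T) (hF : ∀ z ∈ Z, Γ.X.F z = z) {a : Fin 6 → ℤ}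
    (ha : a ∈ E.Sz Z) : a ᵥ* h ∈ E.Sz Z := by
  obtain ⟨h1, h2⟩ := E.mem_Sz.1 ha
  refine E.mem_Sz.2 ⟨F.ra.rt a h1, fun z hz => ?_⟩
  obtain ⟨c, rfl⟩ := E.mem_T.1 (hZ hz)
  have h3 := h2 _ hz
  rw [← hF _ hz, E.F_τ, E.χ_τ, chr_mon, F.A, vecMul_smul, chr_zsmul, Units.val_eq_one] at h3
  rw [E.χ_τ, F.eq_one h3, Units.val_one]

/-- the exponent of `T ^ F` -/
theorem Fq.pow_odd (F : Fq E q h) (hg : Good h) {t : YY chevE6 r} (ht : t ∈ E.T) (hF : Γ.X.F t = t) :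
    t ^ (1 + q ^ 2 + q ^ 4) = 1 := by
  obtain ⟨c, rfl⟩ := E.mem_T.1 ht
  have h1 := E.fix_τ.1 hF
  have h2 : E.A ^ 4 + q ^ 2 • E.A ^ 2 + q ^ 4 • (1 : Matrix (Fin 6) (Fin 6) ℤ) = 0 := by
    rw [F.A, smul_pow, smul_pow, smul_smul, ← pow_add, ← smul_add, ← smul_add, hg, smul_zero]
  have h3 := mon_zero' c
  rw [← h2, mon_add, mon_add, mon_zsmul, mon_zsmul, mon_pow_fix h1, mon_pow_fix h1, mon_one] at h3
  rw [← map_zpow, _root_.zpow_add, _root_.zpow_add, zpow_one, h3, map_one]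

theorem Fq.pow_three (F : Fq E (-2) h) (hg : h * h + h + 1 = 0) {t : YY chevE6 r} (ht : t ∈ E.T) (hF : Γ.X.F t = t) :
    t ^ 3 = 1 := by
  obtain ⟨c, rfl⟩ := E.mem_T.1 ht
  have h1 := E.fix_τ.1 hF
  have h2 : E.A ^ 2 + (-2 : ℤ) • E.A + (4 : ℤ) • (1 : Matrix (Fin 6) (Fin 6) ℤ) = 0 := by
    rw [F.A, smul_pow, smul_smul, pow_two h, show (-2 : ℤ) ^ 2 = 4 by norm_num, show (-2 : ℤ) * -2 = 4 by norm_num,
      ← smul_add, ← smul_add, hg, smul_zero]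
  have h3 := mon_zero' c
  rw [← h2, mon_add, mon_add, mon_zsmul, mon_zsmul, mon_pow_fix h1, h1, mon_one] at h3
  rw [← map_pow, show c ^ 3 = c * c ^ (-2 : ℤ) * c ^ (4 : ℤ) by group, h3, map_one]

/-! ### the plane -/

variable (Γ) in
/-- the `3'`-elements of the centraliser -/
def T0 (Q : Subgroup S) : Set (YY chevE6 r) := Γ.s.ι '' {y | y ∈ Ce Q ∧ ¬ 3 ∣ orderOf y}

theorem T0_fix {Q : Subgroup S} : ∀ z ∈ T0 Γ Q, Γ.X.F z = z := by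
  rintro _ ⟨y, -, rfl⟩
  exact Γ.fix y

/-- the situation -/
structure Sp (E : Tor Γ.X) {ζ : (KK r)ˣ} (hζ : IsPrimitiveRoot ζ 3) (A : Subgroup (MulAut S)) (Q : Subgroup S) :
    Prop where
  L : Lt
  P : Pure 3 S A Q
  u : u0 ∈ vs Γ.s hζ E Q
  x : x0 ∈ vs Γ.s hζ E Q

namespace Sp

variable {ζ : (KK r)ˣ} {hζ : IsPrimitiveRoot ζ 3} {A : Subgroup (MulAut S)} {Q : Subgroup S} (H : Sp E hζ A Q)
include H

theorem B_le : B0 ≤ vs Γ.s hζ E Q := Submodule.span_le.2 (by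
  rintro _ (rfl | rfl)
  exacts [H.u, H.x])

theorem reg (a : Fin 6 → ℤ) (ha : Rt chevE6 6 a) : ∃ v ∈ (B0 : Set (Fin 6 → ZMod 3)), vl a v ≠ 0 :=
  (H.L.reg a ha).elim (fun h => ⟨_, Submodule.subset_span (Set.mem_insert _ _), h⟩)
    fun h => ⟨_, Submodule.subset_span (Set.mem_insert_of_mem _ rfl), h⟩

theorem Sz_B : E.Sz (E.e ζ '' (B0 : Set (Fin 6 → ZMod 3))) = ∅ := Set.eq_empty_of_forall_notMem fun a ha => by
  obtain ⟨h1, h2⟩ := (E.mem_Sz_e hζ).1 ha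
  obtain ⟨v, h3, h4⟩ := H.reg a h1
  exact h4 (h2 v h3)

theorem comm {y : S} (hy : y ∈ Ce Q) : ∀ v ∈ (B0 : Set (Fin 6 → ZMod 3)), E.e ζ v * Γ.s.ι y = Γ.s.ι y * E.e ζ v :=
  fun v hv => by
    obtain ⟨a, a1, a2⟩ := H.B_le hv
    rw [← a2, ← map_mul, ← map_mul, hy a a1]

theorem T0_le : T0 Γ Q ⊆ E.T := by
  rintro _ ⟨y, ⟨h1, h2⟩, rfl⟩
  rw [← E.cen_eq_T H.Sz_B]
  refine E.ppr (p := 3) ?_ ?_ _ ?_ (by rwa [orderOf_injective _ Γ.inj])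
  · rintro _ ⟨v, -, rfl⟩
    exact E.e_mem ζ v
  · rintro _ ⟨v, -, rfl⟩
    exact ⟨1, by rw [pow_one, E.e_pow hζ]⟩
  · rintro _ ⟨v, hv, rfl⟩
    exact H.comm h1 v hv

theorem fx (F : Fq E q h) : Fx h :=
  ⟨F.ra, (F.mv_A _).symm.trans (fix_of_mem_vs _ hζ H.u), (F.mv_A _).symm.trans (fix_of_mem_vs _ hζ H.x)⟩

theorem mem_KK {a : S} (ha : Γ.s.ι a ∈ E.T) : a ∈ BHZ.Nil.KK 3 Q :=
  mem_KK_of fun y h1 h2 => Γ.inj (by rw [map_mul, map_mul, E.T_comm (H.T0_le ⟨y, ⟨h1, h2⟩, rfl⟩) ha])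

theorem not_cj (E' : Tor Γ.X) {a : S} (ha : a ∈ BHZ.Nil.KK 3 Q) {t : Fin 6 → ZMod 3} (h1 : Γ.s.ι a = E'.e ζ t)
    (h2 : t ≠ 0) (h3 : 18 < nz chevE6 t) : False := by
  obtain ⟨b, b1, b2⟩ := H.u
  have h4 := cj_of_pure Γ.s hζ H.P E E' (le_KK b1) ha b2 h1 (by decide) h2
  have h5 := nz_cj hpE6 (Pl.cj_P6 (h4.mono fun _ => admS_of_admL Nat.prime_three hr.out Γ.h3.symm))
  rw [H.L.nz0] at h5
  omega

/-- **LT** -/
theorem kill (F : Fq E q h) {v : CoxeterMatrix.E₆.Group} (hv : v ∈ Subgroup.closure (E.rf '' E.Sz (T0 Γ Q)))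
    {t : Fin 6 → ZMod 3} (h2 : t ≠ 0) (h3 : 18 < nz chevE6 t) (h4 : mv (wm Γ.X v * h) t = t)
    {u : CoxeterMatrix.E₆.Group} (h5 : wm Γ.X v * h * wm Γ.X u = wm Γ.X u * (wm Γ.X v * h))
    (h6 : mv (wm Γ.X u) t = -t) : False := by
  obtain ⟨m, m1, m2⟩ := E.exists_rp_cen hv
  obtain ⟨c, c1, E', c2, c3⟩ := E.exists_twist H.T0_le (fun z hz => (T0_fix z hz).symm ▸ hz) m2 m1
  rw [F.A, mul_smul_comm] at c3
  have k1 : Γ.X.F (E'.e ζ t) = E'.e ζ t := (E'.fix_iff hζ).2 (by rw [c3, smul_mv, F.q1, one_smul, h4])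
  obtain ⟨g, g1, g2⟩ := E'.exists_rp_fix (v := u) (by rw [c3, smul_mul_assoc, mul_smul_comm, h5])
  have k2 := E'.conj_e hζ g1 t
  rw [h6, E'.e_neg hζ] at k2
  obtain ⟨a, ha⟩ := mem_of_real (H := GF Γ.X.F ⊤) (K := Γ.s.ι.range) (fun a ha b hb => Γ.comm_mem ha.2 hb.2)
    ⟨Subgroup.mem_top _, k1⟩ ⟨Subgroup.mem_top _, g2⟩ k2 (n := 3) (by decide) (E'.e_pow hζ t)
  refine H.not_cj E' (mem_KK_of fun y y1 y2 => Γ.inj ?_) ha h2 h3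
  have k3 : Γ.s.ι y * c = c * Γ.s.ι y := E.cen_le H.T0_le c1 _ ⟨y, ⟨y1, y2⟩, rfl⟩
  have k4 := E.T_comm (H.T0_le ⟨y, ⟨y1, y2⟩, rfl⟩) (E.e_mem ζ t)
  rw [map_mul, map_mul, ha, show E'.e ζ t = c * E.e ζ t * c⁻¹ from c2 _]
  calc _ = Γ.s.ι y * c * E.e ζ t * c⁻¹ := by group
    _ = c * E.e ζ t * c⁻¹ * (c * Γ.s.ι y) * c⁻¹ := by rw [k3, mul_assoc c, k4]; group
    _ = _ := by rw [← k3]; group

theorem kill1 (F : Fq E q h) {v : CoxeterMatrix.E₆.Group} (hv : v ∈ Subgroup.closure (E.rf '' E.Sz (T0 Γ Q)))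
    {a : Fin 6 → ℤ} (ha : Rt chevE6 6 a) (e : a ᵥ* (wm Γ.X v * h) = a) : False := by
  have h1 := (ra_wm (Γ := Γ) v).mul F.ra
  have h2 := ra_cor h1 a
  have h3 := ra_R6 h1 a
  rw [e] at h2 h3
  refine H.kill F hv (cz_ne (bl_self ha)) (H.L.nzr a ha) (by rw [mv_cz, h2]) (u := E.rf a) (by rwa [wm_rf6 E ha]) ?_
  rw [wm_rf6 E ha, mv_cz, R6_mulVec, bl_self ha, ← cz_neg]
  congr 1
  module

theorem kill2 (F : Fq E q h) {v : CoxeterMatrix.E₆.Group} (hv : v ∈ Subgroup.closure (E.rf '' E.Sz (T0 Γ Q)))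
    {a b : Fin 6 → ℤ} (ha : Rt chevE6 6 a) (hb : Rt chevE6 6 b) (e : a ᵥ* (wm Γ.X v * h) = b)
    (e' : b ᵥ* (wm Γ.X v * h) = a) (h0 : b ⬝ᵥ G6 *ᵥ a = 0) (hn : 18 < nz chevE6 (cz 3 (G6 *ᵥ (a + b)))) : False := by
  have h1 := (ra_wm (Γ := Γ) v).mul F.ra
  have h2 := ra_cor h1 a
  have h3 := ra_R6 h1 a
  have h4 := ra_cor h1 b
  have h5 := ra_R6 h1 b
  have h6 := ra_R6 (wm_rf6 E ha ▸ ra_wm (Γ := Γ) (E.rf a)) b
  rw [e] at h2 h3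
  rw [e'] at h4 h5
  rw [vecMul_R6, h0, zero_smul, sub_zero] at h6
  refine H.kill F hv (cz_ne (a := b) ?_) hn (by rw [mv_cz, mulVec_add, mulVec_add, h2, h4, add_comm])
    (u := E.rf a * E.rf b) ?_ ?_
  · rw [mulVec_add, dotProduct_add, h0, bl_self hb, zero_add]
  · rw [map_mul, wm_rf6 E ha, wm_rf6 E hb, ← mul_assoc, h5, mul_assoc (R6 b), h3, h6, mul_assoc (R6 b)]
  · rw [map_mul, wm_rf6 E ha, wm_rf6 E hb, mv_cz, ← mulVec_mulVec, R6_mulVec, R6_mulVec, ← cz_neg]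
    simp only [mulVec_add, dotProduct_add, dotProduct_sub, dotProduct_smul, bl_self ha, bl_self hb, bl_comm a b, h0]
    congr 1
    module

theorem good (F : Fq E q h) : Good h :=
  (H.L.dich h (H.fx F)).resolve_left fun ⟨_, h1, h2⟩ => H.kill1 F (one_mem _) h1 (by rwa [map_one, one_mul])

theorem Sz_T0 : E.Sz (T0 Γ Q) = ∅ := Set.eq_empty_of_forall_notMem fun a ha => by
  obtain ⟨q, h, F⟩ := exists_fq E
  have h1 := F.Sz H.T0_le T0_fix ha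
  have h2 := F.Sz H.T0_le T0_fix h1
  have r0 := (E.mem_Sz.1 ha).1
  have r1 := (E.mem_Sz.1 h1).1
  have r2 := (E.mem_Sz.1 h2).1
  have k : ∀ b ∈ E.Sz (T0 Γ Q), E.rf a * E.rf b ∈ Subgroup.closure (E.rf '' E.Sz (T0 Γ Q)) := fun b hb =>
    mul_mem (Subgroup.subset_closure ⟨a, ha, rfl⟩) (Subgroup.subset_closure ⟨b, hb, rfl⟩)
  rcases H.L.good h (H.fx F) (H.good F) a r0 with h3 | ⟨h3, h4, h5⟩
  · exact H.kill1 F (k _ h1) r1 (by rw [map_mul, wm_rf6 E r0, wm_rf6 E r1, ← vecMul_vecMul, two_step r1 h3])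
  · have h6 : (a ᵥ* h ᵥ* h) ⬝ᵥ G6 *ᵥ (a ᵥ* h) = 0 := (ra_bl F.ra _ _).trans h3
    refine H.kill2 F (k _ h2) r1 r2 ?_ ?_ h6 h5
    · rw [map_mul, wm_rf6 E r0, wm_rf6 E r2, ← vecMul_vecMul, ← vecMul_vecMul, vecMul_R6 a, h3, zero_smul, sub_zero,
        vecMul_R6, bl_comm, h6, zero_smul, sub_zero]
    · rw [map_mul, wm_rf6 E r0, wm_rf6 E r2, ← vecMul_vecMul, two_step r2 h4]

theorem cop : Cop (T0 Γ Q) 3 := by
  rintro _ ⟨y, ⟨-, h1⟩, rfl⟩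
  exact ⟨orderOf y, ((Nat.Prime.coprime_iff_not_dvd Nat.prime_three).2 h1).symm,
    by rw [← map_pow, pow_orderOf_eq_one, map_one]⟩

/-- `Q` lies in the torus -/
theorem Q_le {a : S} (ha : a ∈ Q) : Γ.s.ι a ∈ E.T := by
  refine mem_T_of_cop E.D H.T0_le H.Sz_T0 (Subgroup.mem_top _) ?_ three_pos H.cop ?_
  · rintro _ ⟨y, ⟨h1, -⟩, rfl⟩
    rw [← map_mul, ← map_mul, h1 a ha]
  · rw [← map_pow, Pure.pow_eq hζ H.P ha, map_one]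
    exact one_mem _

theorem vs_eq : vs Γ.s hζ E (BHZ.Nil.KK 3 Q) = B0 :=
  (Submodule.eq_of_le_of_finrank_le (H.B_le.trans (vs_mono _ hζ E le_KK)) (by
    rw [finrank_B0]
    exact Pl.rkE63 ((pureSp Γ.s hζ H.P E).mono fun _ => admS_of_admL Nat.prime_three hr.out Γ.h3.symm))).symm

/-- `Q` is the plane -/
theorem mem_Q {a : S} : a ∈ Q ↔ ∃ v ∈ B0, Γ.s.ι a = E.e ζ v := by
  refine ⟨fun ha => ?_, fun ⟨v, h1, h2⟩ => ?_⟩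
  · obtain ⟨v, h1, h2⟩ := exists_vec Γ.s hζ H.P E ha (H.Q_le ha)
    exact ⟨v, H.vs_eq ▸ vs_mono _ hζ E le_KK h1, h2⟩
  · obtain ⟨b, b1, b2⟩ := H.B_le h1
    rwa [Γ.inj (h2.trans b2.symm)]

theorem not_two (h2 : r ^ Γ.e = 2) (hπ : Γ.π = rho6) : False := by
  obtain ⟨q, h, F⟩ := exists_fq E
  obtain ⟨rfl, h1⟩ := F.two h2 hπ
  refine Set.eq_empty_iff_forall_notMem.1 H.Sz_T0 _ (E.mem_Sz.2 ⟨Lat.rt_sr hpE6 0, fun z hz => ?_⟩)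
  obtain ⟨m, m1, m2⟩ := H.cop z hz
  have h3 := pow_gcd_eq_one.2 ⟨m2, F.pow_three (H.L.gw h (H.fx F) (H.good F) h1).1 (H.T0_le hz) (T0_fix z hz)⟩
  rw [m1.gcd_eq_one, pow_one] at h3
  rw [h3]
  exact E.D.χ_one _

end Sp

end Cfsg.Agent.TO.E6
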